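import Cfsg.Agent.H840.Lk
import Cfsg.Agent.LThreeFi24.FiveConj

/-!
# `Fi24`: eight commuting transpositions commuting with `l` and `k`, kernel checks (helper834, for `3.Fi24'`)

The points `P8` of the transpositions `b, zc, g, e, h, …`, the sets of the transpositions of `C(l, k)` commuting with four
of them.
-/

set_option autoImplicit false
set_option maxRecDepth 100000
set_option Elab.async false

namespace Cfsg.Agent.H834.R4

open Cfsg Cfsg.Agent.Lib.PermNet Cfsg.Agent.Lib.PermNetPt
open Cfsg.Agent.Fischer.Fi24RepDef Cfsg.Agent.Fischer.Fi24Rep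
open Cfsg.Agent.Fischer.Fi24RepOrb (UG)
open Cfsg.Agent.KFacts.FiTF.FixMask
open Cfsg.Agent.LThreeFi24.FiveConj (eqB)
open Cfsg.Agent.H840.LkK (M uz)
open Cfsg.Spor (Fi24)
open Cfsg.Spor.Fi24 (Gen)

def u5 : List Gen := [.c, .d, .h, .e, .d, .c]
def u6 : List Gen := [.f, .e, .c, .d, .h, .g, .f, .e, .d, .c]
def u7 : List Gen := [.d, .h, .e, .f, .d, .e, .c, .d, .h, .g, .f, .e, .d, .c]

/-- the words of the eight transpositions -/
def W8 : Fin 8 → List Gen
  | 0 => [.b]
  | 1 => uz ++ Gen.b :: uz.reverse
  | 2 => [.g]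
  | 3 => [.e]
  | 4 => [.h]
  | 5 => u5 ++ Gen.b :: u5.reverse
  | 6 => u6 ++ Gen.b :: u6.reverse
  | 7 => u7 ++ Gen.b :: u7.reverse

/-- the points of the eight transpositions -/
def P8 : Fin 8 → ℕ
  | 0 => 193
  | 1 => 23
  | 2 => 8
  | 3 => 3
  | 4 => 4
  | 5 => 199
  | 6 => 203
  | 7 => 209

theorem pt5 : chkPt (nw u5 false) 193 199 = true := by decide +kernel
theorem pt6 : chkPt (nw u6 false) 193 203 = true := by decide +kernel
theorem pt7 : chkPt (nw u7 false) 193 209 = true := by decide +kernel

/-- they commute -/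
theorem cm : ((List.finRange 8).all fun i => (List.finRange 8).all fun j => or (!decide (i < j))
    (chkPt (nw (W8 i) false) (P8 j) (P8 j))) = true := by decide +kernel

/-- they commute with `l` and `k` -/
theorem cl : ((List.finRange 8).all fun j => and (chkPt (nw [.l] false) (P8 j) (P8 j))
    (chkPt (nw [.k] false) (P8 j) (P8 j))) = true := by decide +kernel

/-- the product of the eight transpositions is trivial -/
theorem eqall : eqB (W8 0 ++ (W8 1 ++ (W8 2 ++ (W8 3 ++ (W8 4 ++ (W8 5 ++ (W8 6 ++ W8 7))))))) [] = true := by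
  decide +kernel

/-! ### The four sieves -/

/-- points fixed by `l`, `k`, `b`, `g`, `e` -/
def Li : List ℕ := [3, 4, 8, 23, 53, 57, 66, 79, 160, 176, 193, 199, 203, 209, 221, 241, 247, 263, 771, 773, 775, 777,
  779, 781, 787, 789, 791, 793, 795, 797, 866, 882, 903, 919, 2339, 2343, 2345, 2349, 2355, 2359, 2361, 2365, 2409, 2425,
  2467, 2479, 2483, 2495]
/-- points fixed by `l`, `k`, `g`, `e`, `h`, `i` -/
def Lc : List ℕ := [2, 3, 8, 23, 53, 57, 65, 67, 68, 70, 193, 195, 205, 207, 212, 214, 217, 219, 228, 230]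
/-- points fixed by `l`, `k`, `b`, `g`, `i` -/
def Ld : List ℕ := [3, 8, 23, 53, 57, 96, 100, 113, 117, 176, 193, 291, 295, 297, 299, 301, 303, 337, 341, 353, 357, 866,
  919, 2349, 2355, 2359, 2361, 2409, 2483, 2495, 2914, 2918, 5801, 5805, 5811, 5815, 5825, 5829, 5881, 5885, 5913, 5917,
  5945, 5949, 6065, 6069, 6395, 6399]
/-- points fixed by `l`, `k`, `b`, `h`, `i`, `c`, `d` -/
def Lf : List ℕ := [8, 23, 100, 117, 128, 136, 148, 156, 295, 299, 353, 676, 684, 1731, 1739]

theorem svi : seqB (sv (nw [.l] false) bl UG) (fun A => seqB (sv (nw [.k] false) bl A) (fun A =>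
    seqB (sv (nw [.b] false) bl A) (fun A => seqB (sv (nw [.g] false) bl A) (fun A =>
    Nat.beq (sv (nw [.e] false) bl A) (msk Li))))) = true := by
  decide +kernel

theorem svc : seqB (sv (nw [.l] false) bl UG) (fun A => seqB (sv (nw [.k] false) bl A) (fun A =>
    seqB (sv (nw [.g] false) bl A) (fun A => seqB (sv (nw [.e] false) bl A) (fun A =>
    seqB (sv (nw [.h] false) bl A) (fun A => Nat.beq (sv (nw [.i] false) bl A) (msk Lc)))))) = true := by
  decide +kernel

theorem svd : seqB (sv (nw [.l] false) bl UG) (fun A => seqB (sv (nw [.k] false) bl A) (fun A =>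
    seqB (sv (nw [.b] false) bl A) (fun A => seqB (sv (nw [.g] false) bl A) (fun A =>
    Nat.beq (sv (nw [.i] false) bl A) (msk Ld))))) = true := by
  decide +kernel

theorem svf : seqB (sv (nw [.l] false) bl UG) (fun A => seqB (sv (nw [.k] false) bl A) (fun A =>
    seqB (sv (nw [.b] false) bl A) (fun A => seqB (sv (nw [.h] false) bl A) (fun A =>
    seqB (sv (nw [.i] false) bl A) (fun A => seqB (sv (nw [.c] false) bl A) (fun A =>
    Nat.beq (sv (nw [.d] false) bl A) (msk Lf))))))) = true := by
  decide +kernel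

/-! ### The moves -/

/-- the word of a list of indices -/
def wA (A : List (Fin 8)) : List Gen := (A.map W8).flatten

def Ai : List (List (Fin 8)) := [[], [4], [5], [6], [4, 5, 6], [4, 5], [4, 6], [5, 6]]
def Ac : List (List (Fin 8)) := [[], [0]]
def Ad : List (List (Fin 8)) := [[], [3]]
def Af : List (List (Fin 8)) := [[], [2]]

/-- `p` is fixed by a transposition of the list, or by `c` (if `b`), or is moved by a word to `q` -/
noncomputable def mvB (J : List (Fin 8)) (cc : Bool) (A : List (List (Fin 8))) (q p : ℕ) : Bool :=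
  or (J.any fun j => chkPt (nw (W8 j) false) p p) (or (and cc (chkPt (nw [.c] false) p p))
    (A.any fun B => chkPt (nw (wA B) false) p q))

theorem mvi : (Li.all (mvB [4, 5, 6, 7] false Ai 176)) = true := by decide +kernel
theorem mvc : (Lc.all (mvB [0, 5, 6, 7] false Ac 2)) = true := by decide +kernel
theorem mvd : (Ld.all (mvB [3, 4, 6, 7] true Ad 2914)) = true := by decide +kernel
theorem mvf : (Lf.all (mvB [2, 3, 5, 6] false Af 676)) = true := by decide +kernel

/-- the letter does not commute with the transpositions of `J` and commutes with those of `J'` -/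
noncomputable def rlB (x : Gen) (J J' : List (Fin 8)) : Bool := and (J.all fun j => !(chkPt (nw [x] false) (P8 j) (P8 j)))
    (J'.all fun j => chkPt (nw [x] false) (P8 j) (P8 j))

theorem rli : rlB .i [4, 5, 6, 7] [0, 1, 2, 3] = true := by decide +kernel
theorem rlc : rlB .c [0, 5, 6, 7] [1, 2, 3, 4] = true := by decide +kernel
theorem rld : rlB .d [3, 4, 6, 7] [0, 1, 2, 5] = true := by decide +kernel
theorem rlf : rlB .f [2, 3, 5, 6] [0, 1, 4, 7] = true := by decide +kernel
/-- `c` and `d` do not commute -/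
theorem rcd : (!(chkPt (nw [.c] false) 2914 2914)) = true := by decide +kernel

/-! ### The permutations of the eight transpositions -/

/-- a word permutes the eight points -/
noncomputable def actB (w : List Gen) (σ : Fin 8 → Fin 8) : Bool :=
  (List.finRange 8).all fun i => chkPt (nw w false) (P8 i) (P8 (σ i))

/-- the word `x v x v`, `v` the product of the transpositions of `A` -/
def wn (x : Gen) (A : List (Fin 8)) : List Gen := (x :: wA A) ++ (x :: wA A)

def σc : Fin 8 → Fin 8 := ![5, 1, 2, 3, 4, 0, 7, 6]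
def σd : Fin 8 → Fin 8 := ![0, 1, 2, 4, 3, 5, 7, 6]
def σf : Fin 8 → Fin 8 := ![0, 1, 3, 2, 4, 6, 5, 7]
def σi : Fin 8 → Fin 8 := ![0, 1, 2, 3, 5, 4, 7, 6]
def σj : Fin 8 → Fin 8 := ![0, 2, 1, 3, 4, 5, 7, 6]

theorem acc : actB (wn .c [0, 5]) σc = true := by decide +kernel
theorem acd : actB (wn .d [3, 4]) σd = true := by decide +kernel
theorem acf : actB (wn .f [2, 3]) σf = true := by decide +kernel
theorem aci : actB (wn .i [4, 5]) σi = true := by decide +kernel
theorem acj : actB (wn .j [1, 2]) σj = true := by decide +kernel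

end Cfsg.Agent.H834.R4
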